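import Groth.Agent.GenBC.Core
import Groth.Agent.QCoh.FlatBC
import Groth.Agent.ExtPowSh.Loc
import Mathlib.RingTheory.Finiteness.Projective

/-! Base change of cohomology along a finite projective algebra, on any scheme. -/

set_option autoImplicit false
set_option linter.style.haveILetI false
set_option backward.isDefEq.respectTransparency false
set_option backward.isDefEq.respectTransparency.types false
set_option maxHeartbeats 1000000

universe u

open CategoryTheory CategoryTheory.Limits AlgebraicGeometry TopologicalSpace Opposite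
open scoped TensorProduct

noncomputable section

namespace Groth.Agent.FinProjBC

open Groth.Agent Groth.Agent.QCoh Groth.Agent.GenBC

variable {A B : Type u} [CommRing A] [CommRing B] [Algebra A B] {X X' : Scheme.{u}}
  [X.Over (Spec (CommRingCat.of A))] [X'.Over (Spec (CommRingCat.of B))] (g : X' ⟶ X)
  (h : IsPullback g (X' ↘ Spec (CommRingCat.of B)) (X ↘ Spec (CommRingCat.of A))
    (Spec.map (CommRingCat.ofHom (algebraMap A B))))
  {F : X.Modules} (hF : Coh.IsQCoh F)

/-- The direct image of the inverse image. -/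
abbrev pp (F : X.Modules) : X.Modules := (Scheme.Modules.pushforward g).obj ((Scheme.Modules.pullback g).obj F)

/-- The unit, on underlying sheaves. -/
abbrev unitAb (F : X.Modules) : (tab X).obj F ⟶ (tab X).obj (pp g F) :=
  (tab X).map ((Scheme.Modules.pullbackPushforwardAdjunction g).unit.app F)

/-- Multiplication by `b` on the direct image. -/
abbrev mulB (F : X.Modules) (b : B) : (tab X).obj (pp g F) ⟶ (tab X).obj (pp g F) :=
  (CohTop.push g.base).map (Coh.smulAb ((Scheme.Modules.pullback g).obj F)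
    (Coh.toGlobal (X' ↘ Spec (CommRingCat.of B)) b))

theorem hom_ext_affine {G H : X.Modules} {a b : (tab X).obj G ⟶ (tab X).obj H}
    (hab : ∀ V : X.Opens, IsAffineOpen V → ∀ x : Γ(G, V), a.hom.app (op V) x = b.hom.app (op V) x) : a = b := by
  apply Sheaf.hom_ext
  refine NatTrans.ext (funext fun U => AddCommGrpCat.ext fun x => ?_)
  refine TopCat.Sheaf.eq_of_locally_eq' ((tab X).obj H) (fun V : {V : X.affineOpens // V.1 ≤ U.unop} => V.1.1) U.unop
    (fun V => homOfLE V.2) (fun y hy => ?_) _ _ fun V => ?_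
  · obtain ⟨_, ⟨W, hW, rfl⟩, hyW, hWU⟩ := X.isBasis_affineOpens.exists_subset_of_mem_open hy U.unop.2
    exact Opens.mem_iSup.2 ⟨⟨⟨W, hW⟩, hWU⟩, hyW⟩
  · refine (ConcreteCategory.congr_hom (a.hom.naturality (homOfLE V.2).op) x).symm.trans ?_
    refine Eq.trans ?_ (ConcreteCategory.congr_hom (b.hom.naturality (homOfLE V.2).op) x)
    exact hab V.1.1 V.1.2 _

include h hF in
/-- The coordinates of the direct image in a dual basis. -/
theorem exists_coord (φ : B →ₗ[A] A) :
    ∃ p : pp g F ⟶ F, ∀ b : B, unitAb g F ≫ mulB g F b ≫ (tab X).map p =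
      Coh.smulAb F (Coh.toGlobal (X ↘ Spec (CommRingCat.of A)) (φ b)) := by
  let ρ := Coh.toGlobal (X ↘ Spec (CommRingCat.of A))
  let ρ' := Coh.toGlobal (X' ↘ Spec (CommRingCat.of B))
  let F' := (Scheme.Modules.pullback g).obj F
  let η : F ⟶ pp g F := (Scheme.Modules.pullbackPushforwardAdjunction g).unit.app F
  have hbc : IsAffineBC g ρ ρ' (toGlobal_comm (X ↘ Spec (CommRingCat.of A)) (X' ↘ Spec (CommRingCat.of B)) g h.w) η :=
    isAffineBC_of_isPullback h hF
  let gg : ∀ (b : B) (V : X.Opens) (m : Γ(F, V)), Γ(pp g F, V) := fun b V m =>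
    (mulB g F b).hom.app (op V) ((unitAb g F).hom.app (op V) m)
  have hgen : ∀ (V : X.Opens), IsAffineOpen V → ∃ f : Γ(pp g F, V) →ₗ[Γ(X, V)] Γ(F, V),
      ∀ b m, f (gg b V m) = X.presheaf.map (homOfLE (le_top : V ≤ ⊤)).op (ρ (φ b)) • m := by
    intro V hV
    letI := secModule ρ F V
    letI := secModule ρ' F' (g ⁻¹ᵁ V)
    letI := secModule (ρ'.comp (algebraMap A B)) F' (g ⁻¹ᵁ V)
    haveI : IsScalarTower A B Γ(F', g ⁻¹ᵁ V) := .of_algebraMap_smul fun _ _ => rfl
    have hl := hbc V hV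
    let l := secLin ρ ρ' g η (toGlobal_comm (X ↘ Spec (CommRingCat.of A)) (X' ↘ Spec (CommRingCat.of B)) g h.w) V (g ⁻¹ᵁ V) le_rfl
    let f₀ : Γ(F', g ⁻¹ᵁ V) →ₗ[A] Γ(F, V) :=
      ((TensorProduct.lid A Γ(F, V)).toLinearMap.comp (LinearMap.rTensor Γ(F, V) φ)).comp
        (hl.equiv.symm.restrictScalars A).toLinearMap
    have hgg : ∀ b m, gg b V m = b • l m := fun b m => by
      show _ = b • secMap g η le_rfl m
      rw [show secMap g η (le_refl (g ⁻¹ᵁ V)) m = η.app V m from congr($(F'.presheaf.map_id _) (η.app V m))]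
      rfl
    have hf₀ : ∀ b m, f₀ (gg b V m) = X.presheaf.map (homOfLE (le_top : V ≤ ⊤)).op (ρ (φ b)) • m := fun b m => by
      rw [hgg]
      show (TensorProduct.lid A Γ(F, V)) (LinearMap.rTensor Γ(F, V) φ (hl.equiv.symm (b • l m))) = _
      rw [show hl.equiv.symm (b • l m) = b ⊗ₜ[A] m from by
        rw [LinearEquiv.symm_apply_eq, IsBaseChange.equiv_tmul], LinearMap.rTensor_tmul, TensorProduct.lid_tmul]
      rfl
    refine ⟨{ toFun := f₀, map_add' := f₀.map_add, map_smul' := fun r z => ?_ }, hf₀⟩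
    show f₀ (r • z) = r • f₀ z
    obtain ⟨t, rfl⟩ := hl.equiv.surjective z
    induction t using TensorProduct.induction_on with
    | zero =>
      rw [map_zero, smul_zero]
      exact (map_zero f₀).trans ((congrArg (r • ·) (map_zero f₀)).trans (smul_zero _)).symm
    | tmul b m =>
      rw [IsBaseChange.equiv_tmul, ← hgg]
      have h1 : (r • gg b V m : Γ(pp g F, V)) = gg b V (r • m) := by
        have e1 : (unitAb g F).hom.app (op V) (r • m) = r • (show Γ(pp g F, V) from (unitAb g F).hom.app (op V) m) :=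
          Scheme.Modules.Hom.app_smul η r m
        show _ = (mulB g F b).hom.app (op V) _
        rw [e1]
        show (g.app V r) • ((X'.presheaf.map (homOfLE (le_top : g ⁻¹ᵁ V ≤ ⊤)).op (ρ' b)) • (_ : Γ(F', g ⁻¹ᵁ V))) =
          (X'.presheaf.map (homOfLE (le_top : g ⁻¹ᵁ V ≤ ⊤)).op (ρ' b)) • (g.app V r • (_ : Γ(F', g ⁻¹ᵁ V)))
        rw [smul_smul, smul_smul, mul_comm]
      rw [h1, hf₀, hf₀, smul_comm]
    | add x y hx hy =>
      rw [map_add, smul_add]
      exact (map_add f₀ _ _).trans ((congrArg₂ (· + ·) hx hy).trans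
        ((smul_add _ _ _).symm.trans (congrArg (r • ·) (map_add f₀ _ _).symm)))
  choose f hf using fun V : X.affineOpens => hgen V.1 V.2
  obtain ⟨p, hp⟩ := ExtPowSh.exists_hom_of_affine (M := pp g F) (N := F) f fun U V hle s => by
    letI := secModule ρ F U.1
    letI := secModule ρ' F' (g ⁻¹ᵁ U.1)
    letI := secModule (ρ'.comp (algebraMap A B)) F' (g ⁻¹ᵁ U.1)
    haveI : IsScalarTower A B Γ(F', g ⁻¹ᵁ U.1) := .of_algebraMap_smul fun _ _ => rfl
    obtain ⟨t, rfl⟩ := (hbc U.1 U.2).equiv.surjective s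
    induction t using TensorProduct.induction_on with
    | zero => simp only [map_zero]
    | tmul b m =>
      rw [IsBaseChange.equiv_tmul]
      have e0 : (b • secLin ρ ρ' g η (toGlobal_comm (X ↘ Spec (CommRingCat.of A)) (X' ↘ Spec (CommRingCat.of B)) g h.w)
          U.1 (g ⁻¹ᵁ U.1) le_rfl m : Γ(F', g ⁻¹ᵁ U.1)) = gg b U.1 m := by
        show b • secMap g η le_rfl m = _
        rw [show secMap g η (le_refl (g ⁻¹ᵁ U.1)) m = η.app U.1 m from congr($(F'.presheaf.map_id _) (η.app U.1 m))]
        rfl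
      rw [e0]
      refine (congrArg (fun y => F.val.map (homOfLE hle).op y) (hf U b m)).trans ?_
      have e1 : (pp g F).val.map (homOfLE hle).op (gg b U.1 m) = gg b V.1 (F.val.map (homOfLE hle).op m) :=
        ((ConcreteCategory.congr_hom ((unitAb g F ≫ mulB g F b).hom.naturality (homOfLE hle).op) m)).symm
      refine Eq.trans ?_ ((congrArg (f V) e1).trans (hf V b _)).symm
      refine (F.val.map_smul (homOfLE hle).op _ m).trans (congrArg (· • _) ?_)
      exact (ringMap_map _ _ _)
    | add x y hx hy => simp only [map_add, hx, hy]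
  refine ⟨p, fun b => hom_ext_affine fun V hV m => ?_⟩
  exact (hp ⟨V, hV⟩ _).trans (hf ⟨V, hV⟩ b m)

include h hF in
/-- Base change of cohomology. -/
theorem nonempty_baseChange [Module.Finite A B] [Module.Projective A B] (n : ℕ) :
    Nonempty (B ⊗[A] Coh.HH X F n ≃ₗ[B] Coh.HH X' ((Scheme.Modules.pullback g).obj F) n) := by
  classical
  obtain ⟨r, f, s, -, -, hfs⟩ := Module.Finite.exists_comp_eq_id_of_projective A B
  let e : Fin r → B := fun i => f (Pi.single i 1)
  let φ : Fin r → B →ₗ[A] A := fun i => (LinearMap.proj i).comp s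
  have hdual : ∀ b : B, ∑ i, φ i b • e i = b := fun b => by
    have h1 := LinearMap.congr_fun hfs b
    rw [LinearMap.comp_apply] at h1
    conv_rhs => rw [← show f (s b) = b from h1, pi_eq_sum_univ' (s b)]
    rw [map_sum]
    exact Finset.sum_congr rfl fun i _ => (map_smul f _ _).symm
  choose p hp using fun i => exists_coord g h hF (φ i)
  let F' := (Scheme.Modules.pullback g).obj F
  let ρ := Coh.toGlobal (X ↘ Spec (CommRingCat.of A))
  let ρ' := Coh.toGlobal (X' ↘ Spec (CommRingCat.of B))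
  haveI hg : IsAffineHom g := MorphismProperty.of_isPullback h.flip inferInstance
  haveI := KFlatLib.hasInjectiveResolutions_modules (X := X')
  let edge := CohPull.pushEdge g F' n
  have hedge : Function.Bijective edge :=
    bijective_pushEdge g n F' fun q hq => PicGlue.isZero_Rpush_of_isAffineHom g F' (isQCoh_pullback g hF) q hq
  -- the two identities
  have hid : ∑ i, (tab X).map (p i) ≫ unitAb g F ≫ mulB g F (e i) = 𝟙 ((tab X).obj (pp g F)) := by
    refine hom_ext_affine fun V hV z => ?_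
    letI := secModule ρ F V
    letI := secModule ρ' F' (g ⁻¹ᵁ V)
    letI := secModule (ρ'.comp (algebraMap A B)) F' (g ⁻¹ᵁ V)
    haveI : IsScalarTower A B Γ(F', g ⁻¹ᵁ V) := .of_algebraMap_smul fun _ _ => rfl
    let S : Γ(pp g F, V) →+ Γ(pp g F, V) :=
      ((∑ i, (tab X).map (p i) ≫ unitAb g F ≫ mulB g F (e i)).hom.app (op V)).hom
    show S z = z
    let η : F ⟶ pp g F := (Scheme.Modules.pullbackPushforwardAdjunction g).unit.app F
    have hbc : IsAffineBC g ρ ρ' (toGlobal_comm (X ↘ Spec (CommRingCat.of A)) (X' ↘ Spec (CommRingCat.of B)) g h.w) η :=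
      isAffineBC_of_isPullback h hF
    obtain ⟨t, rfl⟩ := (hbc V hV).equiv.surjective z
    induction t using TensorProduct.induction_on with
    | zero => exact (congrArg S (map_zero _)).trans ((map_zero S).trans (map_zero _).symm)
    | tmul b m =>
      rw [IsBaseChange.equiv_tmul]
      let l := secLin ρ ρ' g η (toGlobal_comm (X ↘ Spec (CommRingCat.of A)) (X' ↘ Spec (CommRingCat.of B)) g h.w) V (g ⁻¹ᵁ V) le_rfl
      have hl : ∀ (c : B) (x : Γ(F, V)), (c • l x : Γ(F', g ⁻¹ᵁ V)) = (mulB g F c).hom.app (op V) ((unitAb g F).hom.app (op V) x) := fun c x => by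
        show c • secMap g η le_rfl x = _
        rw [show secMap g η (le_refl (g ⁻¹ᵁ V)) x = η.app V x from congr($(F'.presheaf.map_id _) (η.app V x))]
        rfl
      show S (b • l m) = b • l m
      let ev : ((tab X).obj (pp g F) ⟶ (tab X).obj (pp g F)) →+ Γ(pp g F, V) :=
        AddMonoidHom.mk' (fun q => q.hom.app (op V) (b • l m)) fun _ _ => rfl
      refine (map_sum ev _ _).trans ?_
      have hterm : ∀ i, ev ((tab X).map (p i) ≫ unitAb g F ≫ mulB g F (e i)) = ((φ i b • e i) • l m : Γ(F', g ⁻¹ᵁ V)) := fun i => by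
        show (mulB g F (e i)).hom.app (op V) ((unitAb g F).hom.app (op V) (((tab X).map (p i)).hom.app (op V) (b • l m))) = _
        rw [hl b m, show ((tab X).map (p i)).hom.app (op V) ((mulB g F b).hom.app (op V) ((unitAb g F).hom.app (op V) m)) =
          (φ i b • m : Γ(F, V)) from ConcreteCategory.congr_hom (congr($(hp i b).hom.app (op V))) m, ← hl, l.map_smul,
          smul_comm (e i), smul_assoc]
      refine (Finset.sum_congr rfl fun i _ => hterm i).trans ?_
      exact (Finset.sum_smul (R := B) (M := Γ(F', g ⁻¹ᵁ V)) (f := fun i => φ i b • e i) (x := l m) (s := Finset.univ)).symm.trans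
        (congrArg (fun c : B => (c • l m : Γ(F', g ⁻¹ᵁ V))) (hdual b))
    | add x y hx hy => exact (congrArg S (map_add _ x y)).trans ((map_add S _ _).trans ((congrArg₂ (· + ·) hx hy).trans (map_add _ x y).symm))
  -- maps on cohomology
  let P := (tab X).obj (pp g F)
  let Hη : Coh.HH X F n →+ Coh.HH X (pp g F) n := Sheaf.H.map (unitAb g F) n
  have hedgeb : ∀ (b : B) z, edge (Sheaf.H.map (mulB g F b) n z) = b • edge z := fun b z =>
    pushEdge_natural_ab g F' _ n z
  have hscal : ∀ (a : A) z, Sheaf.H.map (mulB g F (algebraMap A B a)) n (Hη z) = Hη (a • z) := fun a z => by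
    show _ = Sheaf.H.map (unitAb g F) n (Sheaf.H.map (Coh.smulAb F (ρ a)) n z)
    rw [← Sheaf.H.map_comp_apply, ← Sheaf.H.map_comp_apply]
    refine congrArg (fun q => Sheaf.H.map q n z) (hom_ext_affine fun V hV x => ?_)
    show (X'.presheaf.map (homOfLE (le_top : g ⁻¹ᵁ V ≤ ⊤)).op (ρ' (algebraMap A B a))) • (_ : Γ(F', g ⁻¹ᵁ V)) =
      ((Scheme.Modules.pullbackPushforwardAdjunction g).unit.app F).app V
        (X.presheaf.map (homOfLE (le_top : V ≤ ⊤)).op (ρ a) • x)
    rw [Scheme.Modules.Hom.app_smul, toGlobal_comm (X ↘ Spec (CommRingCat.of A)) (X' ↘ Spec (CommRingCat.of B)) g h.w]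
    exact congrArg (fun c : Γ(X', g ⁻¹ᵁ V) => c • (_ : Γ(F', g ⁻¹ᵁ V))) (app_topRes g V _).symm
  letI : Module A (Coh.HH X' F' n) := Module.compHom _ (algebraMap A B)
  haveI : IsScalarTower A B (Coh.HH X' F' n) := .of_algebraMap_smul fun _ _ => rfl
  let Φ₀ : Coh.HH X F n →ₗ[A] Coh.HH X' F' n :=
    { toFun := fun x => edge (Hη x)
      map_add' := fun x y => by rw [map_add, map_add]
      map_smul' := fun a x => by
        show edge (Hη (a • x)) = algebraMap A B a • edge (Hη x)
        rw [← hscal, hedgeb] }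
  let Φ : B ⊗[A] Coh.HH X F n →ₗ[B] Coh.HH X' F' n := Φ₀.liftBaseChange B
  let E := AddEquiv.ofBijective (edge : _ →+ _) hedge
  let Ψ₀ : Coh.HH X (pp g F) n →+ B ⊗[A] Coh.HH X F n :=
    ∑ i, ((TensorProduct.mk A B (Coh.HH X F n) (e i)).toAddMonoidHom.comp (Sheaf.H.map ((tab X).map (p i)) n))
  have hΨ₀ : ∀ b x, Ψ₀ (Sheaf.H.map (mulB g F b) n (Hη x)) = b ⊗ₜ x := fun b x => by
    simp only [Ψ₀, AddMonoidHom.finsetSum_apply, AddMonoidHom.coe_comp, Function.comp_apply, Hη]
    have hi : ∀ i, Sheaf.H.map ((tab X).map (p i)) n (Sheaf.H.map (mulB g F b) n (Sheaf.H.map (unitAb g F) n x)) = φ i b • x :=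
      fun i => ((congrArg (Sheaf.H.map _ n) (Sheaf.H.map_comp_apply _ _ _).symm).trans
        (Sheaf.H.map_comp_apply _ _ _).symm).trans (congrArg (fun q => Sheaf.H.map q n x) ((Category.assoc _ _ _).trans (hp i b)))
    simp only [hi]
    show ∑ i, e i ⊗ₜ[A] (φ i b • x) = _
    simp only [← TensorProduct.smul_tmul, ← TensorProduct.sum_tmul, hdual]
  have hΦmap : ∀ t, Ψ₀ (E.symm (Φ t)) = t := fun t => by
    induction t using TensorProduct.induction_on with
    | zero => simp
    | tmul b x =>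
      rw [show Φ (b ⊗ₜ x) = b • edge (Hη x) from LinearMap.liftBaseChange_tmul _ _ _ _, ← hedgeb]
      exact (congrArg Ψ₀ (E.symm_apply_apply _)).trans (hΨ₀ b x)
    | add a c ha hc => simp only [map_add, ha, hc]
  refine ⟨LinearEquiv.ofBijective Φ ⟨fun a c hac => ?_, fun y => ⟨Ψ₀ (E.symm y), ?_⟩⟩⟩
  · rw [← hΦmap a, ← hΦmap c, hac]
  · obtain ⟨z, rfl⟩ := hedge.2 y
    rw [show E.symm (edge z) = z from E.symm_apply_apply z]
    simp only [Ψ₀, AddMonoidHom.finsetSum_apply, AddMonoidHom.coe_comp, Function.comp_apply, map_sum]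
    have h2 : ∀ i, Φ ((TensorProduct.mk A B (Coh.HH X F n) (e i)).toAddMonoidHom (Sheaf.H.map ((tab X).map (p i)) n z)) =
        edge (Sheaf.H.map ((tab X).map (p i) ≫ unitAb g F ≫ mulB g F (e i)) n z) := fun i => by
      show Φ (e i ⊗ₜ _) = _
      rw [show Φ (e i ⊗ₜ Sheaf.H.map ((tab X).map (p i)) n z) = e i • edge (Hη (Sheaf.H.map ((tab X).map (p i)) n z)) from
        LinearMap.liftBaseChange_tmul _ _ _ _, ← hedgeb]
      exact congrArg edge (((congrArg (Sheaf.H.map _ n) (Sheaf.H.map_comp_apply _ _ _).symm).trans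
        (Sheaf.H.map_comp_apply _ _ _).symm).trans (congrArg (fun q => Sheaf.H.map q n z) (Category.assoc _ _ _)))
    rw [Finset.sum_congr rfl fun i _ => h2 i, ← map_sum]
    refine congrArg edge ?_
    let ev : ((tab X).obj (pp g F) ⟶ (tab X).obj (pp g F)) →+ Coh.HH X (pp g F) n :=
      AddMonoidHom.mk' (fun q => Sheaf.H.map q n z) fun a c => Sheaf.H.map_add_apply a c z
    exact ((map_sum ev _ _).symm.trans (congrArg ev hid)).trans (Sheaf.H.map_id_apply z)

end Groth.Agent.FinProjBC
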